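import Mathlib

/-!
# Counting involution pairs in the cosets of a coprime fixed-point subgroup

If a coprime automorphism fixes the centralizer of an involution, then comparing the pairs of
conjugate involutions lying in one coset of the fixed-point subgroup with the pairs inside that
subgroup shows that the fixed-point subgroup contains only one conjugate of the involution.
-/

set_option autoImplicit false
set_option linter.unusedSectionVars false

namespace Cfsg.Agent.Lib.CoprimeInvolution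

variable {G : Type*} [Group G]

/-- The subgroup of fixed points of an automorphism. -/
def fixedPts (α : MulAut G) : Subgroup G := α.toMonoidHom.eqLocus (MonoidHom.id G)

theorem mem_fixedPts {α : MulAut G} {x : G} : x ∈ fixedPts α ↔ α x = x := Iff.rfl

variable [Finite G] {α : MulAut G}

/-- An element moved by a coprime automorphism is not moved by a fixed factor. -/
theorem mem_of_quot_mem (hcop : (orderOf α).Coprime (Nat.card G)) {g : G}
    (h : g⁻¹ * α g ∈ fixedPts α) : g ∈ fixedPts α := by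
  set c := g⁻¹ * α g with hc
  have hαg : α g = g * c := by rw [hc, mul_inv_cancel_left]
  have hpow : ∀ i : ℕ, (α ^ i) g = g * c ^ i := by
    intro i
    induction i with
    | zero => simp
    | succ i ih =>
      rw [pow_succ', MulAut.mul_apply, ih, map_mul, map_pow, mem_fixedPts.mp h, hαg, mul_assoc, pow_succ']
  have h1 := hpow (orderOf α)
  rw [pow_orderOf_eq_one, MulAut.one_apply, left_eq_mul] at h1
  have h2 : orderOf c = 1 := Nat.eq_one_of_dvd_coprimes hcop (orderOf_dvd_of_pow_eq_one h1)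
    (orderOf_dvd_natCard c)
  rw [orderOf_eq_one_iff.mp h2, mul_one] at hαg
  exact hαg

/-- Fusion of a fixed element with fixed centralizer is controlled by the fixed points. -/
theorem mem_of_conj_mem (hcop : (orderOf α).Coprime (Nat.card G)) {g x : G} (hx : x ∈ fixedPts α)
    (hC : Subgroup.centralizer ({x} : Set G) ≤ fixedPts α) (h : g * x * g⁻¹ ∈ fixedPts α) :
    g ∈ fixedPts α := by
  refine mem_of_quot_mem hcop (hC ?_)
  rw [Subgroup.mem_centralizer_singleton_iff]
  have h1 : α g * x * (α g)⁻¹ = g * x * g⁻¹ := by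
    have := mem_fixedPts.mp h
    rwa [map_mul, map_mul, map_inv, mem_fixedPts.mp hx] at this
  calc g⁻¹ * α g * x = g⁻¹ * (α g * x * (α g)⁻¹) * α g := by group
    _ = g⁻¹ * (g * x * g⁻¹) * α g := by rw [h1]
    _ = x * (g⁻¹ * α g) := by group

variable (hcop : (orderOf α).Coprime (Nat.card G)) {τ : G}
  (hC : Subgroup.centralizer ({τ} : Set G) ≤ fixedPts α)
include hcop hC

theorem tau_mem : τ ∈ fixedPts α := hC (Subgroup.mem_centralizer_singleton_iff.mpr rfl)

theorem centralizer_conj_le {x : G} (hx : x ∈ fixedPts α) (hc : IsConj τ x) :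
    Subgroup.centralizer ({x} : Set G) ≤ fixedPts α := by
  obtain ⟨a, rfl⟩ := isConj_iff.mp hc
  have ha : a ∈ fixedPts α := mem_of_conj_mem hcop (tau_mem hcop hC) hC hx
  intro c hc'
  rw [Subgroup.mem_centralizer_singleton_iff] at hc'
  have h1 : a⁻¹ * c * a ∈ fixedPts α := hC (by
    rw [Subgroup.mem_centralizer_singleton_iff]
    calc a⁻¹ * c * a * τ = a⁻¹ * (c * (a * τ * a⁻¹)) * a := by group
      _ = a⁻¹ * (a * τ * a⁻¹ * c) * a := by rw [hc']
      _ = τ * (a⁻¹ * c * a) := by group)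
  have e : c = a * (a⁻¹ * c * a) * a⁻¹ := by group
  rw [e]
  exact mul_mem (mul_mem ha h1) (inv_mem ha)

/-- Some Sylow 2-subgroup is fixed. -/
theorem exists_fixed_sylow (hτ : orderOf τ = 2) :
    ∃ S : Sylow 2 G, τ ∈ S ∧ (S : Subgroup G) ≤ fixedPts α := by
  classical
  haveI : Fact (Nat.Prime 2) := ⟨Nat.prime_two⟩
  let 𝒯 : Set (Subgroup G) := {T | IsPGroup 2 T ∧ τ ∈ T ∧ T ≤ fixedPts α}
  have hne : 𝒯.Nonempty := ⟨Subgroup.zpowers τ,
    IsPGroup.of_card (n := 1) (by rw [Nat.card_zpowers, hτ, pow_one]),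
    Subgroup.mem_zpowers τ, Subgroup.zpowers_le.mpr (tau_mem hcop hC)⟩
  obtain ⟨T, ⟨hTp, hτT, hTH⟩, hmax⟩ := Set.Finite.exists_maximalFor id 𝒯 (Set.toFinite _) hne
  obtain ⟨S, hS⟩ := hTp.exists_le_sylow
  have hN : Subgroup.normalizer (T : Set G) ≤ fixedPts α := fun g hg =>
    mem_of_conj_mem hcop (tau_mem hcop hC) hC (hTH ((Subgroup.mem_normalizer_iff.mp hg τ).mp hτT))
  refine ⟨S, hS hτT, ?_⟩
  suffices heq : (S : Subgroup G) ≤ T from heq.trans hTH
  by_contra hnle
  haveI : Group.IsNilpotent (S : Subgroup G) := S.isPGroup'.isNilpotent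
  have hlt : T.subgroupOf (S : Subgroup G) < ⊤ := lt_of_le_of_ne le_top fun h =>
    hnle (Subgroup.subgroupOf_eq_top.mp h)
  have h2 := Group.normalizerCondition_of_isNilpotent (G := ↥(S : Subgroup G)) _ hlt
  obtain ⟨g, hg, hgT⟩ := SetLike.exists_of_lt h2
  let T' : Subgroup G := (S : Subgroup G) ⊓ Subgroup.normalizer (T : Set G)
  have hTT' : T ≤ T' := le_inf hS Subgroup.le_normalizer
  have hgN : (g : G) ∈ Subgroup.normalizer (T : Set G) := by
    rw [Subgroup.mem_normalizer_iff]
    intro x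
    constructor
    · intro hx
      exact (Subgroup.mem_normalizer_iff.mp hg ⟨x, hS hx⟩).mp hx
    · intro hx
      have hxS : x ∈ (S : Subgroup G) := by
        have := mul_mem (mul_mem (inv_mem g.2) (hS hx)) g.2
        simpa [mul_assoc] using this
      exact (Subgroup.mem_normalizer_iff.mp hg ⟨x, hxS⟩).mpr hx
  have := hmax (j := T') ⟨S.isPGroup'.to_le inf_le_left, hTT' hτT, inf_le_right.trans hN⟩ hTT'
  exact hgT (this ⟨g.2, hgN⟩)

section Prime

variable {r : ℕ} [hr : Fact r.Prime] (hα : orderOf α = r)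
include hα

omit hC in
/-- A coprime automorphism of prime order leaves some Sylow 2-subgroup of an invariant subgroup
invariant. -/
theorem exists_invariant_sylow (X : Subgroup G) (hX : ∀ x ∈ X, α x ∈ X) :
    ∃ P : Subgroup G, P ≤ X ∧ (∀ x ∈ P, α x ∈ P) ∧ ∃ S : Sylow 2 ↥X, P = (S : Subgroup ↥X).map X.subtype := by
  classical
  haveI : Fact (Nat.Prime 2) := ⟨Nat.prime_two⟩
  let e : ↥X →* ↥X := (α.toMonoidHom.comp X.subtype).codRestrict X fun x => hX x x.2
  have hinj : Function.Injective e := fun a b h =>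
    Subtype.ext (α.injective (congrArg Subtype.val h))
  let β : MulAut ↥X := MulEquiv.ofBijective e ((Finite.injective_iff_bijective).mp hinj)
  have hβ : ∀ (i : ℕ) (x : ↥X), (((β ^ i) x : ↥X) : G) = (α ^ i) (x : G) := by
    intro i
    induction i with
    | zero => intro x; simp
    | succ i ih =>
      intro x
      rw [pow_succ', pow_succ', MulAut.mul_apply, MulAut.mul_apply, ← ih]
      rfl
  have hβr : orderOf β ∣ r := orderOf_dvd_of_pow_eq_one (MulEquiv.ext fun x => Subtype.ext (by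
    rw [hβ, ← hα, pow_orderOf_eq_one]
    rfl))
  have hpg : IsPGroup r ↥(Subgroup.zpowers β) := by
    rcases (Nat.dvd_prime hr.out).mp hβr with hk | hk
    · exact IsPGroup.of_card (n := 0) (by rw [Nat.card_zpowers, hk, pow_zero])
    · exact IsPGroup.of_card (n := 1) (by rw [Nat.card_zpowers, hk, pow_one])
  have hnd : ¬ r ∣ Nat.card (Sylow 2 ↥X) := fun h => by
    have h1 : r ∣ Nat.card G := h.trans (((default : Sylow 2 ↥X).card_dvd_index.trans
      (Subgroup.index_dvd_card _)).trans (Subgroup.card_subgroup_dvd_card X))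
    have h2 := Nat.eq_one_of_dvd_coprimes hcop (hα ▸ dvd_refl r) h1
    exact hr.out.ne_one h2
  obtain ⟨S, hS⟩ := hpg.nonempty_fixed_point_of_prime_not_dvd_card (Sylow 2 ↥X) hnd
  refine ⟨_, Subgroup.map_subtype_le _, ?_, S, rfl⟩
  rintro _ ⟨x, hx, rfl⟩
  refine ⟨β x, ?_, rfl⟩
  have h3 := hS ⟨β, Subgroup.mem_zpowers β⟩
  rw [Sylow.ext_iff] at h3
  have h4 : β x ∈ ((⟨β, Subgroup.mem_zpowers β⟩ : ↥(Subgroup.zpowers β)) • S : Sylow 2 ↥X).toSubgroup :=
    Subgroup.smul_mem_pointwise_smul x β (S : Subgroup ↥X) hx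
  rw [h3] at h4
  exact h4

/-- Every invariant 2-subgroup is fixed. -/
theorem invariant_two_le (hτ : orderOf τ = 2) (P : Subgroup G) (hP : IsPGroup 2 P)
    (hinv : ∀ x ∈ P, α x ∈ P) : P ≤ fixedPts α := by
  classical
  haveI : Fact (Nat.Prime 2) := ⟨Nat.prime_two⟩
  let 𝒬 : Set (Subgroup G) := {Q | P ≤ Q ∧ IsPGroup 2 Q ∧ ∀ x ∈ Q, α x ∈ Q}
  obtain ⟨Q, ⟨hPQ, hQp, hQi⟩, hmax⟩ :=
    Set.Finite.exists_maximalFor id 𝒬 (Set.toFinite _) ⟨P, le_rfl, hP, hinv⟩
  refine hPQ.trans ?_
  have hQeq : Q.map α.toMonoidHom = Q := Subgroup.eq_of_le_of_card_ge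
    (by rintro _ ⟨x, hx, rfl⟩; exact hQi x hx)
    (Subgroup.card_map_of_injective α.injective).ge
  set N := Subgroup.normalizer (Q : Set G) with hNdef
  have hNi : ∀ x ∈ N, α x ∈ N := by
    intro x hx
    rw [hNdef, Subgroup.mem_normalizer_iff] at hx ⊢
    intro y
    obtain ⟨y, rfl⟩ := α.surjective y
    have hiff : ∀ z, α z ∈ Q ↔ z ∈ Q := fun z =>
      ⟨fun h => by
        rw [← hQeq] at h
        obtain ⟨w, hw, hwz⟩ := h
        exact α.injective hwz ▸ hw, hQi z⟩
    rw [← map_inv, ← map_mul, ← map_mul, hiff, hiff]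
    exact hx y
  obtain ⟨R, hRN, hRi, S, hRS⟩ := exists_invariant_sylow hcop hα N hNi
  have hRp : IsPGroup 2 R := hRS ▸ S.isPGroup'.map _
  have hQR : Q ≤ R := by
    haveI : (Q.subgroupOf N).Normal := Subgroup.normal_in_normalizer
    have h1 : Q.subgroupOf N ≤ (S : Subgroup ↥N) := by
      obtain ⟨S', hS'⟩ := (hQp.comap_subtype (H := Q) (K := N)).exists_le_sylow
      obtain ⟨c, rfl⟩ := MulAction.exists_smul_eq ↥N S' S
      intro x hx
      have h2 : c⁻¹ * x * c ∈ Q.subgroupOf N := by
        have := Subgroup.Normal.conj_mem (inferInstance : (Q.subgroupOf N).Normal) x hx c⁻¹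
        simpa using this
      have h3 := Subgroup.smul_mem_pointwise_smul _ (MulAut.conj c) (S' : Subgroup ↥N) (hS' h2)
      rw [MulAut.smul_def, MulAut.conj_apply] at h3
      have e : c * (c⁻¹ * x * c) * c⁻¹ = x := by group
      rw [e] at h3
      exact h3
    intro x hx
    rw [hRS]
    exact ⟨⟨x, Subgroup.le_normalizer hx⟩, h1 (Subgroup.mem_subgroupOf.mpr hx), rfl⟩
  have hRQ : R ≤ Q := hmax (j := R) ⟨hPQ.trans hQR, hRp, hRi⟩ hQR
  obtain ⟨S₁, hS₁⟩ := hQp.exists_le_sylow
  have hQsyl : (S₁ : Subgroup G) = Q := by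
    refine le_antisymm ?_ hS₁
    by_contra hnle
    haveI : Group.IsNilpotent (S₁ : Subgroup G) := S₁.isPGroup'.isNilpotent
    have hlt : Q.subgroupOf (S₁ : Subgroup G) < ⊤ := lt_of_le_of_ne le_top fun h =>
      hnle (Subgroup.subgroupOf_eq_top.mp h)
    have h2 := Group.normalizerCondition_of_isNilpotent (G := ↥(S₁ : Subgroup G)) _ hlt
    obtain ⟨g, hg, hgQ⟩ := SetLike.exists_of_lt h2
    let T' : Subgroup G := (S₁ : Subgroup G) ⊓ N
    have hgN : (g : G) ∈ N := by
      rw [hNdef, Subgroup.mem_normalizer_iff]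
      intro x
      constructor
      · intro hx
        exact (Subgroup.mem_normalizer_iff.mp hg ⟨x, hS₁ hx⟩).mp hx
      · intro hx
        have hxS : x ∈ (S₁ : Subgroup G) := by
          have := mul_mem (mul_mem (inv_mem g.2) (hS₁ hx)) g.2
          simpa [mul_assoc] using this
        exact (Subgroup.mem_normalizer_iff.mp hg ⟨x, hxS⟩).mpr hx
    have hT'p : IsPGroup 2 (T'.subgroupOf N) :=
      (S₁.isPGroup'.to_le (inf_le_left : T' ≤ (S₁ : Subgroup G))).comap_subtype
    obtain ⟨S₂, hS₂⟩ := hT'p.exists_le_sylow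
    have hcardT : Nat.card T' ≤ Nat.card Q := by
      rw [← Nat.card_congr (Subgroup.subgroupOfEquivOfLe (inf_le_right : T' ≤ N)).toEquiv]
      calc Nat.card (T'.subgroupOf N) ≤ Nat.card (S₂ : Subgroup ↥N) := Subgroup.card_le_of_le hS₂
        _ = Nat.card (S : Subgroup ↥N) := by rw [Sylow.card_eq_multiplicity, Sylow.card_eq_multiplicity]
        _ = Nat.card R := by rw [hRS, Subgroup.card_map_of_injective (Subgroup.subtype_injective N)]
        _ ≤ Nat.card Q := Subgroup.card_le_of_le hRQ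
    have hQT : Q = T' := Subgroup.eq_of_le_of_card_ge (le_inf hS₁ Subgroup.le_normalizer) hcardT
    exact hgQ (show (g : G) ∈ Q from hQT ▸ ⟨g.2, hgN⟩)
  obtain ⟨S₀, hτS, hS₀⟩ := exists_fixed_sylow hcop hC hτ
  obtain ⟨g, hg⟩ := MulAction.exists_smul_eq G S₀ S₁
  have hmem : ∀ x ∈ (S₀ : Subgroup G), g * x * g⁻¹ ∈ Q := by
    intro x hx
    rw [← hQsyl, ← hg]
    exact Subgroup.smul_mem_pointwise_smul x (MulAut.conj g) (S₀ : Subgroup G) hx
  have hgfix : g ∈ fixedPts α := by
    refine mem_of_quot_mem hcop ?_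
    have hN0 : ∀ c ∈ Subgroup.normalizer ((S₀ : Subgroup G) : Set G), c ∈ fixedPts α := fun c hc =>
      mem_of_conj_mem hcop (tau_mem hcop hC) hC (hS₀ ((Subgroup.mem_normalizer_iff.mp hc τ).mp hτS))
    refine hN0 _ ?_
    refine (Subgroup.mem_normalizer_iff).mpr fun x => ?_
    have hfwd : ∀ x ∈ (S₀ : Subgroup G), (g⁻¹ * α g) * x * (g⁻¹ * α g)⁻¹ ∈ (S₀ : Subgroup G) := by
      intro x hx
      have h1 : α g * x * (α g)⁻¹ ∈ Q := by
        have := hQi _ (hmem x hx)
        rwa [map_mul, map_mul, map_inv, mem_fixedPts.mp (hS₀ hx)] at this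
      rw [← hQsyl, ← hg] at h1
      obtain ⟨y, hy, hyx⟩ := h1
      change g * y * g⁻¹ = α g * x * (α g)⁻¹ at hyx
      have e : (g⁻¹ * α g) * x * (g⁻¹ * α g)⁻¹ = g⁻¹ * (α g * x * (α g)⁻¹) * g := by group
      rw [e, ← hyx]
      have e2 : g⁻¹ * (g * y * g⁻¹) * g = y := by group
      rw [e2]
      exact hy
    refine ⟨hfwd x, fun hx => ?_⟩
    obtain ⟨y, hy⟩ := (Finite.injective_iff_surjective (f := fun z : ↥(S₀ : Subgroup G) =>
      (⟨_, hfwd z z.2⟩ : ↥(S₀ : Subgroup G)))).mp
      (fun a b h => Subtype.ext (by simpa using congrArg Subtype.val h)) ⟨_, hx⟩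
    have hy' := congrArg Subtype.val hy
    simp only [mul_left_inj, mul_right_inj] at hy'
    exact hy' ▸ y.2
  intro x hx
  rw [← hQsyl, ← hg] at hx
  obtain ⟨y, hy, rfl⟩ := hx
  exact mul_mem (mul_mem hgfix (hS₀ hy)) (inv_mem hgfix)

open Classical in
/-- If the fixed points contain no nontrivial normal subgroup then they contain only one conjugate
of the involution. -/
theorem eq_of_conj_mem (hτ : orderOf τ = 2) (hcore : (fixedPts α).normalCore = ⊥) {x : G}
    (hx : x ∈ fixedPts α) (hc : IsConj τ x) : x = τ := by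
  haveI : Fact (Nat.Prime 2) := ⟨Nat.prime_two⟩
  letI := Fintype.ofFinite G
  letI := Fintype.ofFinite (G ⧸ fixedPts α)
  set H := fixedPts α with hH
  set I : Finset G := Finset.univ.filter (fun u => IsConj τ u) with hI
  have hmemI : ∀ u, u ∈ I ↔ IsConj τ u := fun u => by simp [hI]
  have hIconj : ∀ (g u : G), u ∈ I → g * u * g⁻¹ ∈ I := fun g u hu => by
    rw [hmemI] at hu ⊢
    exact hu.trans (isConj_iff.mpr ⟨g, rfl⟩)
  have hinvol : ∀ u ∈ I, u * u = 1 := fun u hu => by
    obtain ⟨a, rfl⟩ := isConj_iff.mp ((hmemI u).mp hu)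
    have h2 : τ * τ = 1 := by rw [← pow_two, ← hτ, pow_orderOf_eq_one]
    calc a * τ * a⁻¹ * (a * τ * a⁻¹) = a * (τ * τ) * a⁻¹ := by group
      _ = 1 := by rw [h2, mul_one, mul_inv_cancel]
  set IH : Finset G := I.filter (· ∈ H) with hIH
  set n := Fintype.card (G ⧸ H) with hn
  set m := IH.card with hm
  set U : G → Finset G := fun j => I.filter (fun u => u * j ∈ I) with hU
  set UH : G → Finset G := fun j => (U j).filter (· ∈ H) with hUH
  set HS : Finset G := Finset.univ.filter (· ∈ H) with hHS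
  set k : G ⧸ H → ℕ := fun c => (I.filter (fun u : G => (u : G ⧸ H) = c)).card with hk
  -- the number of conjugates
  have hcard : I.card = n * m := by
    rw [hn, hm, ← Finset.card_univ, ← Finset.card_product]
    refine (Finset.card_bij (fun p _ => p.1.out * p.2 * p.1.out⁻¹) ?_ ?_ ?_).symm
    · intro p hp
      exact hIconj _ _ (Finset.mem_filter.mp (Finset.mem_product.mp hp).2).1
    · intro p hp q hq h
      obtain ⟨hpI, hpH⟩ := Finset.mem_filter.mp (Finset.mem_product.mp hp).2
      obtain ⟨-, hqH⟩ := Finset.mem_filter.mp (Finset.mem_product.mp hq).2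
      have h1 : (q.1.out⁻¹ * p.1.out) * p.2 * (q.1.out⁻¹ * p.1.out)⁻¹ = q.2 := by
        calc _ = q.1.out⁻¹ * (p.1.out * p.2 * p.1.out⁻¹) * q.1.out := by group
          _ = q.1.out⁻¹ * (q.1.out * q.2 * q.1.out⁻¹) * q.1.out := by rw [h]
          _ = q.2 := by group
      have h2 : q.1.out⁻¹ * p.1.out ∈ H := mem_of_conj_mem hcop hpH
        (centralizer_conj_le hcop hC hpH ((hmemI _).mp hpI)) (h1 ▸ hqH)
      have h3 : q.1 = p.1 := by
        rw [← q.1.out_eq', ← p.1.out_eq']
        exact QuotientGroup.eq.mpr h2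
      refine Prod.ext h3.symm ?_
      rw [h3] at h1
      simpa using h1
    · intro u hu
      obtain ⟨a, rfl⟩ := isConj_iff.mp ((hmemI u).mp hu)
      have h1 : ((a : G ⧸ H)).out⁻¹ * a ∈ H := QuotientGroup.eq.mp (QuotientGroup.out_eq' _)
      refine ⟨((a : G ⧸ H), ((a : G ⧸ H).out⁻¹ * a) * τ * ((a : G ⧸ H).out⁻¹ * a)⁻¹), ?_, ?_⟩
      · refine Finset.mem_product.mpr ⟨Finset.mem_univ _, Finset.mem_filter.mpr
          ⟨hIconj _ _ ((hmemI τ).mpr (IsConj.refl τ)), mul_mem (mul_mem h1 (tau_mem hcop hC)) (inv_mem h1)⟩⟩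
      · group
  -- pairs in a common coset
  have hsq : ∑ j ∈ HS, (U j).card = ∑ c : G ⧸ H, k c * k c := by
    have h1 : ∀ u ∈ I, (HS.filter (fun j => u * j ∈ I)).card = k (u : G ⧸ H) := by
      intro u _
      refine Finset.card_bij (fun j _ => u * j) ?_ (fun a _ b _ h => mul_left_cancel h) ?_
      · intro j hj
        simp only [hHS, Finset.mem_filter, Finset.mem_univ, true_and] at hj
        exact Finset.mem_filter.mpr ⟨hj.2, (QuotientGroup.eq.mpr (by simpa using hj.1)).symm⟩
      · intro v hv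
        obtain ⟨hvI, hvu⟩ := Finset.mem_filter.mp hv
        refine ⟨u⁻¹ * v, ?_, mul_inv_cancel_left u v⟩
        simp only [hHS, Finset.mem_filter, Finset.mem_univ, true_and]
        exact ⟨QuotientGroup.eq.mp hvu.symm, by rwa [mul_inv_cancel_left]⟩
    calc ∑ j ∈ HS, (U j).card
        = ∑ j ∈ HS, ∑ u ∈ I, (if u * j ∈ I then 1 else 0) :=
          Finset.sum_congr rfl fun j _ => Finset.card_filter _ _
      _ = ∑ u ∈ I, ∑ j ∈ HS, (if u * j ∈ I then 1 else 0) := Finset.sum_comm
      _ = ∑ u ∈ I, k (u : G ⧸ H) := Finset.sum_congr rfl fun u hu => by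
          rw [← Finset.card_filter]; exact h1 u hu
      _ = ∑ c : G ⧸ H, ∑ u ∈ I.filter (fun u : G => (u : G ⧸ H) = c), k (u : G ⧸ H) :=
          (Finset.sum_fiberwise _ _ _).symm
      _ = ∑ c : G ⧸ H, k c * k c := Finset.sum_congr rfl fun c _ => by
          rw [Finset.sum_congr rfl (g := fun _ => k c) (fun u hu => by
            rw [(Finset.mem_filter.mp hu).2]), Finset.sum_const, smul_eq_mul]
  have hlow : n * (m * m) ≤ ∑ j ∈ HS, (U j).card := by
    have hs : ∑ c : G ⧸ H, k c = I.card :=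
      (Finset.card_eq_sum_card_fiberwise (fun u _ => Finset.mem_univ _)).symm
    have hcs := sq_sum_le_card_mul_sum_sq (s := (Finset.univ : Finset (G ⧸ H))) (f := k)
    rw [hs, hcard, Finset.card_univ, ← hn] at hcs
    simp only [pow_two] at hcs
    rw [← hsq] at hcs
    have hn0 : 0 < n := by rw [hn]; exact Fintype.card_pos
    refine Nat.le_of_mul_le_mul_left ?_ hn0
    calc n * (n * (m * m)) = n * m * (n * m) := by ring
      _ ≤ _ := hcs
  -- pairs inside the fixed points
  have hinside : ∑ j ∈ HS, (UH j).card = m * m := by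
    calc ∑ j ∈ HS, (UH j).card
        = ∑ j ∈ HS, ∑ u ∈ IH, (if u * j ∈ I then 1 else 0) := Finset.sum_congr rfl fun j _ => by
          rw [← Finset.card_filter]
          congr 1
          ext u
          simp only [hUH, hU, hIH, Finset.mem_filter]
          tauto
      _ = ∑ u ∈ IH, ∑ j ∈ HS, (if u * j ∈ I then 1 else 0) := Finset.sum_comm
      _ = ∑ _u ∈ IH, m := Finset.sum_congr rfl fun u hu => by
          rw [← Finset.card_filter, hm]
          have huH := (Finset.mem_filter.mp hu).2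
          refine Finset.card_bij (fun j _ => u * j) ?_ (fun a _ b _ h => mul_left_cancel h) ?_
          · intro j hj
            simp only [hHS, Finset.mem_filter, Finset.mem_univ, true_and] at hj
            exact Finset.mem_filter.mpr ⟨hj.2, mul_mem huH hj.1⟩
          · intro v hv
            obtain ⟨hvI, hvH⟩ := Finset.mem_filter.mp hv
            refine ⟨u⁻¹ * v, ?_, mul_inv_cancel_left u v⟩
            simp only [hHS, Finset.mem_filter, Finset.mem_univ, true_and]
            exact ⟨mul_mem (inv_mem huH) hvH, by rwa [mul_inv_cancel_left]⟩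
      _ = m * m := by rw [Finset.sum_const, smul_eq_mul, hm]
  -- a nontrivial fixed element gives few pairs
  have hone : (U 1).card = n * m ∧ (UH 1).card = m := by
    constructor
    · rw [← hcard]; congr 1; ext u; simp [hU]
    · rw [hm]; congr 1; ext u; simp [hUH, hU, hIH]
  have hbound : ∀ j ∈ HS, j ≠ 1 → (U j).card ≤ (n - 1) * (UH j).card := by
    intro j hj hj1
    have hjH : j ∈ H := (Finset.mem_filter.mp hj).2
    let X : Subgroup G :=
      { carrier := {g | g * j * g⁻¹ = j ∨ g * j * g⁻¹ = j⁻¹}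
        one_mem' := Or.inl (by group)
        mul_mem' := fun {a b} ha hb => by
          have e : a * b * j * (a * b)⁻¹ = a * (b * j * b⁻¹) * a⁻¹ := by group
          have e' : a * j⁻¹ * a⁻¹ = (a * j * a⁻¹)⁻¹ := by group
          simp only [Set.mem_ofPred_eq, e]
          rcases hb with hb | hb <;> rw [hb]
          · exact ha
          · rw [e']; rcases ha with ha | ha <;> rw [ha]
            · exact Or.inr rfl
            · exact Or.inl (inv_inv j)
        inv_mem' := fun {a} ha => by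
          simp only [Set.mem_ofPred_eq, inv_inv]
          rcases ha with ha | ha
          · exact Or.inl (by
              calc a⁻¹ * j * a = a⁻¹ * (a * j * a⁻¹) * a := by rw [ha]
                _ = j := by group)
          · exact Or.inr (by
              calc a⁻¹ * j * a = a⁻¹ * (a * j * a⁻¹)⁻¹ * a := by rw [ha, inv_inv]
                _ = j⁻¹ := by group) }
    have hXi : ∀ g ∈ X, α g ∈ X := by
      intro g hg
      have e : α g * j * (α g)⁻¹ = α (g * j * g⁻¹) := by
        rw [map_mul, map_mul, map_inv, mem_fixedPts.mp hjH]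
      show α g * j * (α g)⁻¹ = j ∨ α g * j * (α g)⁻¹ = j⁻¹
      rw [e]
      rcases hg with hg | hg <;> rw [hg]
      · exact Or.inl (mem_fixedPts.mp hjH)
      · exact Or.inr (by rw [map_inv, mem_fixedPts.mp hjH])
    have hUX : ∀ u ∈ U j, u ∈ X := by
      intro u hu
      obtain ⟨huI, huj⟩ := Finset.mem_filter.mp hu
      refine Or.inr ?_
      rw [inv_eq_of_mul_eq_one_right (hinvol u huI)]
      exact (inv_eq_of_mul_eq_one_left (by have := hinvol _ huj; rwa [← mul_assoc] at this)).symm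
    have hUconj : ∀ g ∈ X, ∀ u ∈ U j, g * u * g⁻¹ ∈ U j := by
      intro g hg u hu
      obtain ⟨huI, huj⟩ := Finset.mem_filter.mp hu
      refine Finset.mem_filter.mpr ⟨hIconj g u huI, ?_⟩
      rcases hg with hg | hg
      · have e : g * u * g⁻¹ * j = g * (u * j) * g⁻¹ := by
          nth_rewrite 1 [← hg]; group
        rw [e]; exact hIconj _ _ huj
      · have e : g * u * g⁻¹ * j = g * (j * u) * g⁻¹ := by
          have h1 : j = (g * j * g⁻¹)⁻¹ := by rw [hg, inv_inv]
          nth_rewrite 1 [h1]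
          have h2 : j * u = u * j⁻¹ := by
            have h3 := hinvol _ huj
            calc j * u = u * (u * j * (u * j)) * j⁻¹ * 1 := by
                  rw [mul_one]
                  calc j * u = (u * u) * j * u * (j * j⁻¹) := by rw [hinvol u huI, one_mul, mul_inv_cancel, mul_one]
                    _ = _ := by group
              _ = u * j⁻¹ := by rw [h3, mul_one, mul_one]
          rw [h2]; group
        rw [e]
        have e2 : j * u = u * (u * j) * u⁻¹ := by
          rw [inv_eq_of_mul_eq_one_right (hinvol u huI), ← mul_assoc, hinvol u huI, one_mul]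
        rw [e2]
        exact hIconj _ _ (hIconj _ _ huj)
    set R : Finset (G ⧸ H) := Finset.univ.filter (fun c => ∃ x ∈ X, (x : G ⧸ H) = c) with hR
    have hRn : R.card ≤ n - 1 := by
      have hne : R ≠ Finset.univ := by
        intro h
        have hall : ∀ g : G, g⁻¹ * j * g ∈ H := by
          intro g
          obtain ⟨x, hx, hxg⟩ := (Finset.mem_filter.mp (h ▸ Finset.mem_univ (g : G ⧸ H))).2
          have hh : x⁻¹ * g ∈ H := QuotientGroup.eq.mp hxg
          have hx' : x⁻¹ * j * x ∈ H := by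
            have := X.inv_mem hx
            rcases this with h' | h' <;> rw [inv_inv] at h' <;> rw [h']
            · exact hjH
            · exact inv_mem hjH
          have e : g⁻¹ * j * g = (x⁻¹ * g)⁻¹ * (x⁻¹ * j * x) * (x⁻¹ * g) := by group
          rw [e]
          exact mul_mem (mul_mem (inv_mem hh) hx') hh
        have : j ∈ H.normalCore := fun g => by simpa using hall g⁻¹
        rw [hcore, Subgroup.mem_bot] at this
        exact hj1 this
      have := Finset.card_lt_univ_of_notMem (s := R) (x := Classical.choose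
        (by by_contra h; push Not at h; exact hne (Finset.eq_univ_of_forall h) : ∃ c, c ∉ R))
        (Classical.choose_spec (by by_contra h; push Not at h; exact hne (Finset.eq_univ_of_forall h) : ∃ c, c ∉ R))
      omega
    let rep : G ⧸ H → G := fun c => if h : ∃ x ∈ X, (x : G ⧸ H) = c then h.choose else 1
    have hsurj : U j ⊆ (R ×ˢ UH j).image (fun p => rep p.1 * p.2 * (rep p.1)⁻¹) := by
      intro u hu
      obtain ⟨P, hPX, hPi, S, hPS⟩ := exists_invariant_sylow hcop hα X hXi
      have hPH : P ≤ H := invariant_two_le hcop hC hα hτ P (hPS ▸ S.isPGroup'.map _) hPi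
      have huX := hUX u hu
      have hup : IsPGroup 2 (Subgroup.zpowers (⟨u, huX⟩ : ↥X)) := by
        obtain ⟨i, -, hi⟩ := (Nat.dvd_prime_pow Nat.prime_two (m := 1)).mp
          (orderOf_dvd_of_pow_eq_one (x := (⟨u, huX⟩ : ↥X)) (n := 2 ^ 1) (Subtype.ext (by
            simpa [pow_two] using hinvol u (Finset.mem_filter.mp hu).1)))
        exact IsPGroup.of_card (n := i) (by rw [Nat.card_zpowers, hi])
      obtain ⟨S', hS'⟩ := hup.exists_le_sylow
      obtain ⟨x, rfl⟩ := MulAction.exists_smul_eq ↥X S S'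
      obtain ⟨u₀, hu₀, hu₀u⟩ := hS' (Subgroup.mem_zpowers _)
      have hu₀u' : (x : G) * u₀ * (x : G)⁻¹ = u := congrArg Subtype.val hu₀u
      set c : G ⧸ H := ((x : G) : G ⧸ H) with hc
      have hex : ∃ y ∈ X, (y : G ⧸ H) = c := ⟨x, x.2, rfl⟩
      have hrep : rep c ∈ X ∧ (rep c : G ⧸ H) = c := by
        simp only [rep, dif_pos hex]; exact hex.choose_spec
      have hkH : (rep c)⁻¹ * (x : G) ∈ H := QuotientGroup.eq.mp hrep.2
      have hkX : (rep c)⁻¹ * (x : G) ∈ X := mul_mem (inv_mem hrep.1) x.2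
      have hu₀P : (u₀ : G) ∈ H := hPH (hPS ▸ ⟨u₀, hu₀, rfl⟩)
      refine Finset.mem_image.mpr ⟨(c, (rep c)⁻¹ * u * rep c), ?_, by group⟩
      refine Finset.mem_product.mpr ⟨Finset.mem_filter.mpr ⟨Finset.mem_univ _, hex⟩,
        Finset.mem_filter.mpr ⟨?_, ?_⟩⟩
      · simpa using hUconj _ (inv_mem hrep.1) u hu
      · have e : (rep c)⁻¹ * u * rep c = ((rep c)⁻¹ * x) * u₀ * ((rep c)⁻¹ * x)⁻¹ := by
          rw [← hu₀u']; group
        rw [e]
        exact mul_mem (mul_mem hkH hu₀P) (inv_mem hkH)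
    calc (U j).card ≤ _ := Finset.card_le_card hsurj
      _ ≤ (R ×ˢ UH j).card := Finset.card_image_le
      _ = R.card * (UH j).card := Finset.card_product _ _
      _ ≤ (n - 1) * (UH j).card := Nat.mul_le_mul_right _ hRn
  have h1HS : (1 : G) ∈ HS := Finset.mem_filter.mpr ⟨Finset.mem_univ _, one_mem H⟩
  have hup : ∑ j ∈ HS.erase 1, (U j).card ≤ (n - 1) * ∑ j ∈ HS.erase 1, (UH j).card := by
    rw [Finset.mul_sum]
    exact Finset.sum_le_sum fun j hj => hbound j (Finset.mem_of_mem_erase hj) (Finset.ne_of_mem_erase hj)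
  rw [← Finset.add_sum_erase _ _ h1HS, hone.1] at hlow
  rw [← Finset.add_sum_erase _ _ h1HS, hone.2] at hinside
  have hm1 : m ≤ 1 := by
    have hn0 : 0 < n := by rw [hn]; exact Fintype.card_pos
    obtain ⟨n', hn'⟩ : ∃ n', n = n' + 1 := ⟨n - 1, (Nat.sub_add_cancel hn0).symm⟩
    have h2 : n * (m * m) ≤ n * m + (n - 1) * ∑ j ∈ HS.erase 1, (UH j).card := hlow.trans (by omega)
    rw [hn', Nat.add_sub_cancel] at h2
    nlinarith
  exact Finset.card_le_one.mp hm1 x (Finset.mem_filter.mpr ⟨(hmemI x).mpr hc, hx⟩) τ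
    (Finset.mem_filter.mpr ⟨(hmemI τ).mpr (IsConj.refl τ), tau_mem hcop hC⟩)

end Prime

end Cfsg.Agent.Lib.CoprimeInvolution
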